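import Cfsg.Agent.H389.R.Def
import Cfsg.Agent.ClassicalGeometry.PSL2ElemOrder
import Cfsg.Agent.S0802

/-!
# S3530: basic facts on `PSL(2, u)` (helper347)
-/

set_option autoImplicit false

namespace Cfsg.Agent.H389.RSq

open Subgroup
open Cfsg.Agent.H389.JSq (Has)

universe u v

namespace PB

open Cfsg.Agent.ClassicalGeometry.PSLTorus Cfsg.Agent.ClassicalGeometry.PSL2Basic
open scoped MatrixGroups

theorem a4_mul : ∀ x y : alternatingGroup (Fin 4), x * x = 1 → y * y = 1 → (x * y) * (x * y) = 1 := by decide +kernel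

/-- an element of order 3 -/
def c4 : alternatingGroup (Fin 4) := ⟨c[0, 1, 2], by rw [Equiv.Perm.mem_alternatingGroup]; decide⟩

theorem c4_ord : orderOf c4 = 3 := by
  apply orderOf_eq_prime
  · decide +kernel
  · decide +kernel

theorem c4_fix : ∀ x : alternatingGroup (Fin 4), x * x = 1 → x * c4 = c4 * x → x = 1 := by decide +kernel

theorem a4_ne : ∃ x : alternatingGroup (Fin 4), x * x = 1 ∧ x ≠ 1 := by decide +kernel

/-! ### Generalities -/

theorem charP_of_card {F : Type*} [Field F] [Fintype F] {s f : ℕ} (hs : s.Prime) (hF : Fintype.card F = s ^ f) :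
    CharP F s := by
  obtain ⟨p, hp⟩ := CharP.exists F
  obtain ⟨n, hp', hn⟩ := FiniteField.card F p
  have h1 : p ∣ s ^ f := by
    rw [← hF, hn]
    exact dvd_pow_self p n.2.ne'
  have h2 : p = s := (Nat.prime_dvd_prime_iff_eq hp' hs).mp (hp'.dvd_of_dvd_pow h1)
  rwa [← h2]

theorem odd_card {F : Type*} [Field F] [Fintype F] {s f : ℕ} (hs : s.Prime) (hF : Fintype.card F = s ^ f)
    (h2 : s ≠ 2) : Odd (Fintype.card F) := by
  rw [hF]
  exact (hs.odd_of_ne_two h2).pow

theorem even_card {F : Type*} [Field F] [Fintype F] {f : ℕ} (hF : Fintype.card F = 2 ^ f) :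
    Even (Fintype.card F) := by
  have h1 : 1 < Fintype.card F := Fintype.one_lt_card
  rw [hF] at h1 ⊢
  have hf : f ≠ 0 := by
    rintro rfl
    simp at h1
  exact (Nat.even_pow.mpr ⟨even_two, hf⟩)

theorem sq_sub_one {u : ℕ} (hu : 1 ≤ u) : u ^ 2 - 1 = (u - 1) * (u + 1) := by
  obtain ⟨k, rfl⟩ : ∃ k, u = k + 1 := ⟨u - 1, by omega⟩
  have : (k + 1) ^ 2 - 1 = k * (k + 2) := by
    apply Nat.sub_eq_of_eq_add
    ring
  rw [this]
  simp

theorem has_congr {X Y : Type*} [Group X] [Group Y] (e : X ≃* Y) {n : ℕ} (h : Has Y n) : Has X n := by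
  obtain ⟨g, hg⟩ := h
  exact ⟨e.symm g, by rw [← hg]; exact orderOf_injective e.symm.toMonoidHom e.symm.injective g⟩

/-- the order of the image of an element of odd order -/
theorem orderOf_pr_odd {F : Type*} [Field F] (a : SL(2, F)) (ha : Odd (orderOf a)) :
    orderOf (pr F a) = orderOf a := by
  apply Nat.dvd_antisymm (orderOf_map_dvd (pr F) a)
  set n := orderOf (pr F a) with hn
  have h1 : pr F (a ^ n) = 1 := by rw [map_pow, hn, pow_orderOf_eq_one]
  have h2 : (a ^ n) ^ 2 = 1 := by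
    rcases (pr_eq_one_iff _).mp h1 with h | h
    · rw [h, one_pow]
    · rw [h]
      simp
  rw [← pow_mul] at h2
  have h3 := orderOf_dvd_of_pow_eq_one h2
  exact (Nat.Coprime.dvd_of_dvd_mul_right (Nat.Coprime.symm (Nat.coprime_two_left.mpr ha)) h3)

/-- diagonal elements -/
def dg {F : Type*} [Field F] (a : Fˣ) : SL(2, F) :=
  ⟨!![(a : F), 0; 0, ((a⁻¹ : Fˣ) : F)], by simp [Matrix.det_fin_two]⟩

theorem dg_mul {F : Type*} [Field F] (a b : Fˣ) : dg (a * b) = dg a * dg b := by
  apply Subtype.ext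
  change !![((a * b : Fˣ) : F), 0; 0, (((a * b)⁻¹ : Fˣ) : F)] =
    !![(a : F), 0; 0, ((a⁻¹ : Fˣ) : F)] * !![(b : F), 0; 0, ((b⁻¹ : Fˣ) : F)]
  ext i j
  fin_cases i <;> fin_cases j <;> simp [Matrix.mul_apply, Fin.sum_univ_two, mul_comm]

/-- the split torus -/
def dgHom (F : Type*) [Field F] : Fˣ →* SL(2, F) := MonoidHom.mk' dg dg_mul

theorem dgHom_injective (F : Type*) [Field F] : Function.Injective (dgHom F) := by
  intro a b h
  apply Units.ext
  have := congrArg (fun g : SL(2, F) => (g : Matrix (Fin 2) (Fin 2) F) 0 0) h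
  simpa [dgHom, dg] using this

/-- upper unipotent elements -/
def up {F : Type*} [Field F] (b : F) : SL(2, F) := ⟨!![1, b; 0, 1], by simp [Matrix.det_fin_two]⟩

theorem up_add {F : Type*} [Field F] (a b : F) : up (a + b) = up a * up b := by
  apply Subtype.ext
  change !![1, a + b; 0, 1] = !![1, a; 0, 1] * !![1, b; 0, 1]
  ext i j
  fin_cases i <;> fin_cases j <;> simp [Matrix.mul_apply, Fin.sum_univ_two, add_comm]

/-- the root subgroup -/
def upHom (F : Type*) [Field F] : Multiplicative F →* SL(2, F) :=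
  MonoidHom.mk' (fun b => up b.toAdd) (fun _ _ => up_add _ _)

theorem up_eq {F : Type*} [Field F] {a b : F} (h : pr F (up a) = pr F (up b)) : a = b := by
  rcases (pr_eq_iff _ _).mp h with h | h
  · have := congrArg (fun g : SL(2, F) => (g : Matrix (Fin 2) (Fin 2) F) 0 1) h
    simpa [up] using this
  · have hh : (!![1, a; 0, 1] : Matrix (Fin 2) (Fin 2) F) = -!![1, b; 0, 1] := by
      have := congrArg (fun g : SL(2, F) => (g : Matrix (Fin 2) (Fin 2) F)) h
      simp only [Matrix.SpecialLinearGroup.coe_neg] at this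
      exact this
    have h0 := congrFun (congrFun hh 0) 1
    have h1 := congrFun (congrFun hh 0) 0
    simp at h0 h1
    have h2 : b + b = 0 := by
      have : (1 : F) + 1 = 0 := by linear_combination h1
      calc b + b = (1 + 1) * b := by ring
        _ = 0 := by rw [this, zero_mul]
    rw [h0]
    exact neg_eq_of_add_eq_zero_left h2

theorem dg_conj_up {F : Type*} [Field F] (a : Fˣ) (b : F) :
    dg a * up b * (dg a)⁻¹ = up ((a : F) ^ 2 * b) := by
  rw [mul_inv_eq_iff_eq_mul]
  apply Subtype.ext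
  change !![(a : F), 0; 0, ((a⁻¹ : Fˣ) : F)] * !![1, b; 0, 1] =
    !![1, (a : F) ^ 2 * b; 0, 1] * !![(a : F), 0; 0, ((a⁻¹ : Fˣ) : F)]
  ext i j
  fin_cases i <;> fin_cases j <;> simp [Matrix.mul_apply, Fin.sum_univ_two]
  field_simp

/-- `A ^ (2 s) = 1` gives `g ^ s = 1` -/
theorem pow_char {F : Type*} [Field F] {s : ℕ} (hs : s.Prime) [CharP F s] (A : SL(2, F)) (h : A ^ (2 * s) = 1) :
    pr F A ^ s = 1 := by
  by_cases h2 : (2 : F) = 0
  · have hs2 : s = 2 := by
      have h3 := (CharP.cast_eq_zero_iff F s 2).mp (by exact_mod_cast h2)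
      exact (Nat.prime_dvd_prime_iff_eq hs Nat.prime_two).mp h3
    subst hs2
    have key : A ^ 2 = 1 := by
      have hA := sl2_mul_self A
      set B : Matrix (Fin 2) (Fin 2) F := (A : Matrix (Fin 2) (Fin 2) F) with hB
      set t : F := B.trace with ht
      have h4 : B * B * (B * B) = 1 := by
        have := congrArg (fun g : SL(2, F) => (g : Matrix (Fin 2) (Fin 2) F)) h
        simp only [Matrix.SpecialLinearGroup.coe_pow, Matrix.SpecialLinearGroup.coe_one] at this
        rw [← this, ← hB]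
        simp only [show 2 * 2 = 4 from rfl, pow_succ, pow_zero, one_mul, mul_assoc]
      have hcc : (1 : Matrix (Fin 2) (Fin 2) F) + 1 = 0 := by
        ext i j
        fin_cases i <;> fin_cases j <;> simp <;> linear_combination h2
      have hneg : ∀ X : Matrix (Fin 2) (Fin 2) F, X + X = 0 := by
        intro X
        calc X + X = (1 + 1) * X := by rw [add_mul, one_mul]
          _ = 0 := by rw [hcc, zero_mul]
      have h5 : B * B * (B * B) = t ^ 2 • (B * B) + 1 := by
        have e1 : (t • B - 1) * (t • B - 1) = (t * t) • (B * B) - (t • B + t • B) + 1 := by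
          simp only [sub_mul, mul_sub, one_mul, mul_one, smul_mul_assoc, mul_smul_comm, smul_smul, smul_sub]
          abel
        have e2 : B * B * (B * B) = (t • B - 1) * (t • B - 1) := by rw [hA]
        rw [e2, e1, hneg, sub_zero, pow_two]
      rw [h5] at h4
      have h6 : t ^ 2 • (B * B) = 0 := by
        have := congrArg (fun X => X - 1) h4
        simpa using this
      have h7 : t = 0 := by
        by_contra ht0
        have h8 : B * B = 0 := by
          have := congrArg (fun X => (t ^ 2)⁻¹ • X) h6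
          simpa [smul_smul, inv_mul_cancel₀ (pow_ne_zero 2 ht0)] using this
        have h9 : B.det * B.det = 0 := by rw [← Matrix.det_mul, h8]; simp
        have h10 : B.det = 1 := A.2
        rw [h10] at h9
        simp at h9
      apply Subtype.ext
      rw [h7, zero_smul, zero_sub] at hA
      change ((A ^ 2 : SL(2, F)) : Matrix (Fin 2) (Fin 2) F) = ((1 : SL(2, F)) : Matrix (Fin 2) (Fin 2) F)
      rw [Matrix.SpecialLinearGroup.coe_pow, pow_two, ← hB, hA, Matrix.SpecialLinearGroup.coe_one]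
      exact (neg_eq_of_add_eq_zero_left hcc)
    rw [← map_pow, key, map_one]
  · have h3 : (A ^ s) * (A ^ s) = 1 := by rw [← pow_add, ← h]; congr 1; ring
    rw [← map_pow, pr_eq_one_iff]
    exact Cfsg.Agent.ClassicalGeometry.PSL2ElemOrder.eq_one_or_of_sq h2 _ h3

theorem psl_orderOf_dvd {F : Type*} [Field F] [Fintype F] {s : ℕ} (hs : s.Prime) [CharP F s]
    (g : Matrix.ProjectiveSpecialLinearGroup (Fin 2) F) :
    orderOf g ∣ s ∨ orderOf g ∣ Fintype.card F - 1 ∨ orderOf g ∣ Fintype.card F + 1 := by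
  have : Fact s.Prime := ⟨hs⟩
  obtain ⟨A, rfl⟩ := pr_surjective F g
  rcases Cfsg.Agent.ClassicalGeometry.SL2Order.pow_cases rfl s A with h | h | h
  · right; left
    apply orderOf_dvd_of_pow_eq_one
    rw [← map_pow, h, map_one]
  · right; right
    apply orderOf_dvd_of_pow_eq_one
    rw [← map_pow, h, map_one]
  · left
    exact orderOf_dvd_of_pow_eq_one (pow_char hs A h)

/-- a `p`-subgroup is cyclic if there is a cyclic subgroup of index prime to `p` -/
theorem isCyclic_of_index {X : Type*} [Group X] [Finite X] {p : ℕ} (hp : p.Prime) {C : Subgroup X} (hC : IsCyclic C)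
    (hidx : ¬ p ∣ C.index) {T : Subgroup X} (hT : IsPGroup p T) : IsCyclic T := by
  have : Fact p.Prime := ⟨hp⟩
  have h1 : ¬ p ∣ Nat.card (X ⧸ C) := hidx
  obtain ⟨x, hx⟩ := hT.nonempty_fixed_point_of_prime_not_dvd_card (X ⧸ C) h1
  obtain ⟨g, rfl⟩ := QuotientGroup.mk_surjective x
  have h2 : ∀ t ∈ T, g⁻¹ * t * g ∈ C := by
    intro t ht
    have h3 := hx ⟨t, ht⟩
    have h4 : ((t * g : X) : X ⧸ C) = (g : X ⧸ C) := h3
    have h5 := QuotientGroup.eq.mp h4.symm
    rwa [← mul_assoc] at h5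
  let φ : T →* C :=
    { toFun := fun t => ⟨g⁻¹ * t * g, h2 t t.2⟩
      map_one' := by
        apply Subtype.ext
        simp
      map_mul' := fun a b => by
        apply Subtype.ext
        simp [mul_assoc] }
  exact isCyclic_of_injective φ (by
    intro a b hab
    have h3 : g⁻¹ * (a : X) * g = g⁻¹ * (b : X) * g := congrArg Subtype.val hab
    apply Subtype.ext
    simpa using h3)

end PB

open PB Cfsg.Agent.ClassicalGeometry.PSLTorus Cfsg.Agent.ClassicalGeometry.PSL2Basic

variable {s f : ℕ} {L : Type u} [Group L] [Finite L]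

theorem IsPSL.card_even (h : IsPSL s f L) (hs : s = 2) : Nat.card L = s ^ f * (s ^ f - 1) * (s ^ f + 1) := by
  obtain ⟨hs', F, _, _, hF, ⟨e⟩⟩ := h
  subst hs
  rw [Nat.card_congr e.toEquiv, card_PSL2_even F (even_card hF), ← hF, sq_sub_one Fintype.card_pos, mul_assoc]

theorem IsPSL.card_odd (h : IsPSL s f L) (hs : s ≠ 2) : 2 * Nat.card L = s ^ f * (s ^ f - 1) * (s ^ f + 1) := by
  obtain ⟨hs', F, _, _, hF, ⟨e⟩⟩ := h
  rw [Nat.card_congr e.toEquiv, mul_comm, card_PSL2_odd F (odd_card hs' hF hs), ← hF, sq_sub_one Fintype.card_pos,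
    mul_assoc]

theorem IsPSL.orderOf_dvd (h : IsPSL s f L) (g : L) :
    orderOf g ∣ s ∨ orderOf g ∣ s ^ f - 1 ∨ orderOf g ∣ s ^ f + 1 := by
  obtain ⟨hs', F, _, _, hF, ⟨e⟩⟩ := h
  have := charP_of_card hs' hF
  rw [← orderOf_injective e.toMonoidHom e.injective g, ← hF]
  exact psl_orderOf_dvd hs' _

theorem IsPSL.has_mul (h : IsPSL s f L) {p q : ℕ} (hp : p.Prime) (hq : q.Prime) (hp2 : p ≠ 2) (hq2 : q ≠ 2) (hpq : p ≠ q)
    (hd : (p ∣ s ^ f - 1 ∧ q ∣ s ^ f - 1) ∨ (p ∣ s ^ f + 1 ∧ q ∣ s ^ f + 1)) : Has L (p * q) := by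
  obtain ⟨hs', F, _, _, hF, ⟨e⟩⟩ := h
  classical
  apply has_congr e
  have hcop : Nat.Coprime p q := (Nat.coprime_primes hp hq).mpr hpq
  have hoddpq : Odd (p * q) := (hp.odd_of_ne_two hp2).mul (hq.odd_of_ne_two hq2)
  rcases hd with ⟨h1, h2⟩ | ⟨h1, h2⟩
  · have h3 : p * q ∣ Nat.card Fˣ := by
      rw [Nat.card_eq_fintype_card, Fintype.card_units, hF]
      exact hcop.mul_dvd_of_dvd_of_dvd h1 h2
    obtain ⟨a, ha⟩ := IsCyclic.exists_ofOrder_eq_natCard (α := Fˣ)
    obtain ⟨k, hk⟩ := h3
    have hk0 : k ≠ 0 := by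
      rintro rfl
      rw [mul_zero] at hk
      exact Nat.card_pos.ne' hk
    have h4 : orderOf (a ^ k) = p * q := by
      rw [orderOf_pow_of_dvd hk0 (by rw [ha, hk]; exact dvd_mul_left _ _), ha, hk]
      exact Nat.mul_div_cancel _ (Nat.pos_of_ne_zero hk0)
    have h5 : orderOf (dgHom F (a ^ k)) = p * q := by
      rw [orderOf_injective (dgHom F) (dgHom_injective F), h4]
    exact ⟨pr F (dgHom F (a ^ k)), by rw [orderOf_pr_odd _ (by rw [h5]; exact hoddpq), h5]⟩
  · obtain ⟨C, H, -, -, hC, hcard, -⟩ := exists_psl_torus F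
    have h3 : p * q ∣ Nat.card C := by
      rw [hcard, hF]
      have h4 : p * q ∣ s ^ f + 1 := hcop.mul_dvd_of_dvd_of_dvd h1 h2
      have h5 : Nat.gcd 2 (s ^ f - 1) ∣ s ^ f + 1 := by
        rcases (Nat.dvd_prime Nat.prime_two).mp (Nat.gcd_dvd_left 2 (s ^ f - 1)) with h6 | h6
        · rw [h6]; exact one_dvd _
        · have h7 := Nat.gcd_dvd_right 2 (s ^ f - 1)
          rw [h6] at h7 ⊢
          have h8 : 1 ≤ s ^ f := Nat.one_le_iff_ne_zero.mpr (pow_ne_zero _ hs'.ne_zero)
          omega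
      obtain ⟨c, hc⟩ := h5
      rw [hc, Nat.mul_div_cancel_left _ (Nat.gcd_pos_of_pos_left _ (by norm_num))]
      rw [hc] at h4
      apply Nat.Coprime.dvd_of_dvd_mul_left _ h4
      exact Nat.Coprime.symm ((Nat.coprime_two_left.mpr hoddpq).coprime_dvd_left (Nat.gcd_dvd_left _ _))
    obtain ⟨a, ha⟩ := IsCyclic.exists_ofOrder_eq_natCard (α := C)
    obtain ⟨k, hk⟩ := h3
    have hk0 : k ≠ 0 := by
      rintro rfl
      rw [mul_zero] at hk
      exact Nat.card_pos.ne' hk
    refine ⟨((a ^ k : C) : Matrix.ProjectiveSpecialLinearGroup (Fin 2) F), ?_⟩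
    rw [Subgroup.orderOf_coe, orderOf_pow_of_dvd hk0 (by rw [ha, hk]; exact dvd_mul_left _ _), ha, hk]
    exact Nat.mul_div_cancel _ (Nat.pos_of_ne_zero hk0)

theorem IsPSL.piv (h : IsPSL s f L) {r : ℕ} (hr : r.Prime) (hr2 : r ≠ 2) (hd : r ∣ s ^ f - 1) : Piv L s r := by
  obtain ⟨hs', F, _, _, hF, ⟨e⟩⟩ := h
  classical
  have hchar := charP_of_card hs' hF
  have : Fact s.Prime := ⟨hs'⟩
  -- an element of order `r` of the multiplicative group
  have h3 : r ∣ Nat.card Fˣ := by
    rwa [Nat.card_eq_fintype_card, Fintype.card_units, hF]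
  have : Fact r.Prime := ⟨hr⟩
  obtain ⟨a, ha⟩ := exists_prime_orderOf_dvd_card' r h3
  have h5 : orderOf (dgHom F a) = r := by
    rw [orderOf_injective (dgHom F) (dgHom_injective F), ha]
  have h6 : orderOf (pr F (dgHom F a)) = r := by
    rw [orderOf_pr_odd _ (by rw [h5]; exact hr.odd_of_ne_two hr2), h5]
  let φ : Multiplicative F →* L := e.symm.toMonoidHom.comp ((pr F).comp (upHom F))
  have hφ : ∀ b : F, φ (Multiplicative.ofAdd b) = e.symm (pr F (up b)) := fun _ => rfl
  set k : L := e.symm (pr F (dg a)) with hk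
  have hconj : ∀ b : F, k * φ (Multiplicative.ofAdd b) * k⁻¹ = φ (Multiplicative.ofAdd ((a : F) ^ 2 * b)) := by
    intro b
    rw [hφ, hφ, hk, ← map_inv, ← map_mul, ← map_mul, ← map_inv, ← map_mul, ← map_mul, dg_conj_up]
  have hpow : IsPGroup s (Multiplicative F) := by
    intro x
    refine ⟨1, ?_⟩
    rw [pow_one]
    have : (s : F) = 0 := CharP.cast_eq_zero F s
    change s • (Multiplicative.toAdd x) = 0
    rw [nsmul_eq_mul, this, zero_mul]
  refine ⟨φ.range, k, ?_, ?_, ?_, ?_, ?_⟩
  · rw [MonoidHom.range_eq_map]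
    exact (hpow.to_subgroup ⊤).map φ
  · intro hbot
    have h7 : φ (Multiplicative.ofAdd 1) ∈ φ.range := ⟨_, rfl⟩
    rw [hbot, mem_bot, hφ] at h7
    have h8 : pr F (up (1 : F)) = pr F (up 0) := by
      have h9 : pr F (up (1 : F)) = 1 := by
        have := congrArg e h7
        simpa using this
      have h10 : up (0 : F) = 1 := by
        apply Subtype.ext
        ext i j
        fin_cases i <;> fin_cases j <;> simp [up]
      rw [h9, h10, map_one]
    exact one_ne_zero (up_eq h8)
  · rw [mem_normalizer_iff]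
    intro x
    constructor
    · rintro ⟨b, rfl⟩
      exact ⟨_, (hconj (Multiplicative.toAdd b)).symm⟩
    · rintro ⟨b, hb⟩
      refine ⟨Multiplicative.ofAdd (((a : F) ^ 2)⁻¹ * Multiplicative.toAdd b), ?_⟩
      have h7 := hconj (((a : F) ^ 2)⁻¹ * Multiplicative.toAdd b)
      rw [mul_inv_cancel_left₀ (pow_ne_zero 2 a.ne_zero)] at h7
      have h8 : k * φ (Multiplicative.ofAdd (((a : F) ^ 2)⁻¹ * Multiplicative.toAdd b)) * k⁻¹ = k * x * k⁻¹ := by
        rw [h7, ← hb]
        rfl
      simpa using h8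
  · rw [hk]
    rw [← h6]
    exact orderOf_injective e.symm.toMonoidHom e.symm.injective _
  · rw [eq_bot_iff]
    rintro x ⟨⟨b, rfl⟩, hx2⟩
    have hx3 : φ b ∈ centralizer {k} := hx2
    rw [mem_centralizer_singleton_iff] at hx3
    have h7 := hconj (Multiplicative.toAdd b)
    have h8 : k * φ (Multiplicative.ofAdd (Multiplicative.toAdd b)) * k⁻¹ =
        φ (Multiplicative.ofAdd (Multiplicative.toAdd b)) := by
      rw [mul_inv_eq_iff_eq_mul]
      exact hx3.symm
    rw [h8, hφ, hφ] at h7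
    have h9 := up_eq (e.symm.injective h7)
    have h10 : Multiplicative.toAdd b = 0 := by
      by_contra hb0
      have h11 : (a : F) ^ 2 = 1 := by
        have : ((a : F) ^ 2 - 1) * Multiplicative.toAdd b = 0 := by linear_combination -h9
        rcases mul_eq_zero.mp this with h | h
        · linear_combination h
        · exact absurd h hb0
      have h12 : a ^ 2 = 1 := Units.ext (by simpa using h11)
      have h13 := orderOf_dvd_of_pow_eq_one h12
      rw [ha] at h13
      exact hr2 ((Nat.prime_dvd_prime_iff_eq hr Nat.prime_two).mp h13)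
    rw [mem_bot]
    have h14 : b = 1 := by
      apply Multiplicative.toAdd.injective
      exact h10
    rw [h14, map_one]

theorem IsPSL.isCyclic (h : IsPSL s f L) {p : ℕ} (hp : p.Prime) (hp2 : p ≠ 2) (hps : p ≠ s ∨ f = 1)
    {T : Subgroup L} (hT : IsPGroup p T) : IsCyclic T := by
  have h' := h
  obtain ⟨hs', F, _, _, hF, ⟨e⟩⟩ := h
  classical
  have hchar := charP_of_card hs' hF
  have : Fact s.Prime := ⟨hs'⟩
  have : Fact p.Prime := ⟨hp⟩
  have hu : 1 < s ^ f := by rw [← hF]; exact Fintype.one_lt_card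
  have hcardL : Nat.card L = Nat.card (Matrix.ProjectiveSpecialLinearGroup (Fin 2) F) := Nat.card_congr e.toEquiv
  -- the order of `L`
  have hcard : ∃ c, (c = 1 ∨ c = 2) ∧ c * Nat.card L = s ^ f * (s ^ f - 1) * (s ^ f + 1) := by
    by_cases hs2 : s = 2
    · exact ⟨1, Or.inl rfl, by rw [one_mul]; exact h'.card_even hs2⟩
    · exact ⟨2, Or.inr rfl, h'.card_odd hs2⟩
  obtain ⟨c, hc, hcard⟩ := hcard
  have hpc : ¬ p ∣ c := by
    rcases hc with rfl | rfl
    · exact hp.not_dvd_one
    · intro h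
      exact hp2 ((Nat.prime_dvd_prime_iff_eq hp Nat.prime_two).mp h)
  -- reduction to a cyclic subgroup of index prime to `p`
  have key : ∀ n : ℕ, Has (Matrix.ProjectiveSpecialLinearGroup (Fin 2) F) n →
      ¬ p ^ (padicValNat p n + 1) ∣ Nat.card L → IsCyclic T := by
    intro n hn hnd
    obtain ⟨g, hg⟩ := has_congr e hn
    apply isCyclic_of_index hp (C := zpowers g) inferInstance _ hT
    intro hdvd
    apply hnd
    have h1 : n * (zpowers g).index = Nat.card L := by
      rw [← (zpowers g).card_mul_index, Nat.card_zpowers, hg]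
    rw [← h1, pow_succ]
    exact Nat.mul_dvd_mul pow_padicValNat_dvd hdvd
  by_cases h0 : p = s
  · subst h0
    have hf : f = 1 := hps.resolve_left (fun h => h rfl)
    subst hf
    apply key p
    · have h8 : pr F (up (1 : F)) ≠ 1 := by
        intro h9
        have h10 : up (0 : F) = 1 := by
          apply Subtype.ext
          ext i j
          fin_cases i <;> fin_cases j <;> simp [up]
        have h11 : pr F (up (1 : F)) = pr F (up 0) := by rw [h9, h10, map_one]
        exact one_ne_zero (up_eq h11)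
      refine ⟨pr F (up (1 : F)), orderOf_eq_prime ?_ h8⟩
      have h9 : upHom F (Multiplicative.ofAdd 1) = up (1 : F) := rfl
      rw [← h9, ← map_pow, ← map_pow]
      have h10 : (Multiplicative.ofAdd (1 : F)) ^ p = 1 := by
        change Multiplicative.ofAdd (p • (1 : F)) = Multiplicative.ofAdd 0
        rw [nsmul_eq_mul, CharP.cast_eq_zero F p, zero_mul]
      rw [h10, map_one, map_one]
    · rw [padicValNat_self]
      intro hd
      have h1 : p ^ 2 ∣ p ^ 1 * (p ^ 1 - 1) * (p ^ 1 + 1) := by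
        rw [← hcard]
        exact hd.mul_left c
      rw [pow_one, pow_two, mul_assoc] at h1
      have h2 := Nat.dvd_of_mul_dvd_mul_left hp.pos h1
      rcases hp.dvd_mul.mp h2 with h3 | h3
      · have := Nat.le_of_dvd (by have := hp.two_le; omega) h3
        have := hp.two_le
        omega
      · have h4 := (Nat.dvd_add_right (dvd_refl p)).mp h3
        exact hp.not_dvd_one h4
  · have hpu : ¬ p ∣ s ^ f := by
      intro h
      exact h0 ((Nat.prime_dvd_prime_iff_eq hp hs').mp (hp.dvd_of_dvd_pow h))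
    by_cases h1 : p ∣ s ^ f - 1
    · -- split torus
      have h2 : ¬ p ∣ s ^ f + 1 := by
        intro h
        have h3 := Nat.dvd_sub h h1
        have h4 : s ^ f + 1 - (s ^ f - 1) = 2 := by omega
        rw [h4] at h3
        exact hp2 ((Nat.prime_dvd_prime_iff_eq hp Nat.prime_two).mp h3)
      set v := padicValNat p (s ^ f - 1) with hv
      have hu0 : s ^ f - 1 ≠ 0 := by omega
      apply key (p ^ v)
      · have h3 : p ^ v ∣ Nat.card Fˣ := by
          rw [Nat.card_eq_fintype_card, Fintype.card_units, hF]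
          exact pow_padicValNat_dvd
        obtain ⟨a, ha⟩ := IsCyclic.exists_ofOrder_eq_natCard (α := Fˣ)
        obtain ⟨k, hk⟩ := h3
        have hk0 : k ≠ 0 := by
          rintro rfl
          rw [mul_zero] at hk
          exact Nat.card_pos.ne' hk
        have h4 : orderOf (a ^ k) = p ^ v := by
          rw [orderOf_pow_of_dvd hk0 (by rw [ha, hk]; exact dvd_mul_left _ _), ha, hk]
          exact Nat.mul_div_cancel _ (Nat.pos_of_ne_zero hk0)
        have h5 : orderOf (dgHom F (a ^ k)) = p ^ v := by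
          rw [orderOf_injective (dgHom F) (dgHom_injective F), h4]
        exact ⟨pr F (dgHom F (a ^ k)), by
          rw [orderOf_pr_odd _ (by rw [h5]; exact (hp.odd_of_ne_two hp2).pow), h5]⟩
      · rw [padicValNat.prime_pow]
        intro hd
        have h3 : p ^ (v + 1) ∣ s ^ f * (s ^ f - 1) * (s ^ f + 1) := by
          rw [← hcard]
          exact hd.mul_left c
        have h4 : p ^ (v + 1) ∣ s ^ f * (s ^ f - 1) :=
          (Nat.Coprime.pow_left _ ((Nat.Prime.coprime_iff_not_dvd hp).mpr h2)).dvd_of_dvd_mul_right h3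
        have h5 : p ^ (v + 1) ∣ s ^ f - 1 :=
          (Nat.Coprime.pow_left _ ((Nat.Prime.coprime_iff_not_dvd hp).mpr hpu)).dvd_of_dvd_mul_left h4
        exact pow_succ_padicValNat_not_dvd hu0 h5
    · -- nonsplit torus
      set v := padicValNat p (s ^ f + 1) with hv
      have hu0 : s ^ f + 1 ≠ 0 := by omega
      apply key (p ^ v)
      · obtain ⟨C, H, -, -, hC, hcC, -⟩ := exists_psl_torus F
        have h3 : p ^ v ∣ Nat.card C := by
          rw [hcC, hF]
          have h4 : p ^ v ∣ s ^ f + 1 := pow_padicValNat_dvd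
          have h5 : Nat.gcd 2 (s ^ f - 1) ∣ s ^ f + 1 := by
            rcases (Nat.dvd_prime Nat.prime_two).mp (Nat.gcd_dvd_left 2 (s ^ f - 1)) with h6 | h6
            · rw [h6]; exact one_dvd _
            · have h7 := Nat.gcd_dvd_right 2 (s ^ f - 1)
              rw [h6] at h7 ⊢
              omega
          obtain ⟨c', hc'⟩ := h5
          rw [hc', Nat.mul_div_cancel_left _ (Nat.gcd_pos_of_pos_left _ (by norm_num))]
          rw [hc'] at h4
          apply Nat.Coprime.dvd_of_dvd_mul_left _ h4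
          exact Nat.Coprime.symm ((Nat.coprime_two_left.mpr ((hp.odd_of_ne_two hp2).pow)).coprime_dvd_left
            (Nat.gcd_dvd_left _ _))
        obtain ⟨a, ha⟩ := IsCyclic.exists_ofOrder_eq_natCard (α := C)
        obtain ⟨k, hk⟩ := h3
        have hk0 : k ≠ 0 := by
          rintro rfl
          rw [mul_zero] at hk
          exact Nat.card_pos.ne' hk
        refine ⟨((a ^ k : C) : Matrix.ProjectiveSpecialLinearGroup (Fin 2) F), ?_⟩
        rw [Subgroup.orderOf_coe, orderOf_pow_of_dvd hk0 (by rw [ha, hk]; exact dvd_mul_left _ _), ha, hk]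
        exact Nat.mul_div_cancel _ (Nat.pos_of_ne_zero hk0)
      · rw [padicValNat.prime_pow]
        intro hd
        have h3 : p ^ (v + 1) ∣ s ^ f * (s ^ f - 1) * (s ^ f + 1) := by
          rw [← hcard]
          exact hd.mul_left c
        rw [mul_comm] at h3
        have h6 : Nat.Coprime (p ^ (v + 1)) (s ^ f * (s ^ f - 1)) := by
          apply Nat.Coprime.pow_left
          rw [Nat.Prime.coprime_iff_not_dvd hp, hp.dvd_mul]
          tauto
        exact pow_succ_padicValNat_not_dvd hu0 (h6.dvd_of_dvd_mul_right h3)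

/-! ### The components of linear type -/

theorem IsL2.four_le (h : IsL2 s f L) : 8 ≤ s ^ f := by
  rcases h.type with ⟨rfl, h1⟩ | ⟨-, -, h1⟩
  · calc 8 = 2 ^ 3 := by norm_num
      _ ≤ 2 ^ f := Nat.pow_le_pow_right (by norm_num) h1
  · omega

theorem IsL2.simple (h : IsL2 s f L) : IsSimpleGroup L := by
  have h8 := h.four_le
  obtain ⟨hs', F, _, _, hF, ⟨e⟩⟩ := h.psl
  have : IsSimpleGroup (Matrix.ProjectiveSpecialLinearGroup (Fin 2) F) :=
    Matrix.ProjectiveSpecialLinearGroup.rank_two_simple (by rw [Nat.card_eq_fintype_card]; omega)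
  exact e.isSimpleGroup

open scoped commutatorElement in
theorem IsL2.perfect (h : IsL2 s f L) : ⁅(⊤ : Subgroup L), (⊤ : Subgroup L)⁆ = ⊤ := by
  have h8 := h.four_le
  have hsimp := h.simple
  obtain ⟨hs', F, _, _, hF, ⟨e⟩⟩ := h.psl
  rcases hsimp.eq_bot_or_eq_top_of_normal ⁅(⊤ : Subgroup L), (⊤ : Subgroup L)⁆ inferInstance with h1 | h1
  · exfalso
    apply Cfsg.Agent.ClassicalGeometry.PSL2Solvable.not_isSolvable_psl F (by omega)
    have h2 : Group.IsSolvable L := by
      have h3 : commutator L = ⊥ := h1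
      have h4 : ∀ a b : L, a * b = b * a := by
        intro a b
        have h5 : ⁅a, b⁆ ∈ (⊥ : Subgroup L) := by
          rw [← h1]
          exact commutator_mem_commutator (mem_top a) (mem_top b)
        rw [mem_bot, commutatorElement_eq_one_iff_mul_comm] at h5
        exact h5
      exact Group.isSolvable_of_comm h4
    exact Group.isSolvable_of_isSolvable_injective (f := e.symm.toMonoidHom) e.symm.injective
  · exact h1

theorem three_dvd_mul (u : ℕ) (hu : 1 ≤ u) : 3 ∣ u * (u - 1) * (u + 1) := by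
  obtain ⟨k, rfl⟩ : ∃ k, u = k + 1 := ⟨u - 1, by omega⟩
  have h : k % 3 = 0 ∨ k % 3 = 1 ∨ k % 3 = 2 := by omega
  rw [Nat.dvd_iff_mod_eq_zero]
  simp only [Nat.add_sub_cancel]
  rcases h with h | h | h <;> simp [Nat.mul_mod, Nat.add_mod, h]

theorem IsL2.three_dvd (h : IsL2 s f L) : 3 ∣ Nat.card L := by
  have h1 := three_dvd_mul (s ^ f) (by have := h.four_le; omega)
  by_cases hs : s = 2
  · rwa [h.psl.card_even hs]
  · rw [← h.psl.card_odd hs] at h1
    exact (Nat.Coprime.dvd_of_dvd_mul_left (by norm_num) h1)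

theorem IsL2.piv_three (h : IsL2 s f L) (hs : s ≠ 2) : Piv L 2 3 := by
  obtain ⟨hs', F, _, _, hF, ⟨e⟩⟩ := h.psl
  have hchar := charP_of_card hs' hF
  have : Fact s.Prime := ⟨hs'⟩
  obtain ⟨H, ⟨i⟩⟩ := (Cfsg.Agent.S0802.result s f hF).mpr (fun h => hs h.1)
  let φ : alternatingGroup (Fin 4) →* L := e.symm.toMonoidHom.comp (H.subtype.comp i.symm.toMonoidHom)
  have hφ : Function.Injective φ := e.symm.injective.comp (H.subtype_injective.comp i.symm.injective)
  let V : Subgroup (alternatingGroup (Fin 4)) :=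
    { carrier := {x | x * x = 1}
      one_mem' := by
        change (1 : alternatingGroup (Fin 4)) * 1 = 1
        rw [mul_one]
      mul_mem' := fun {x y} hx hy => a4_mul x y hx hy
      inv_mem' := fun {x} hx => by
        have hx' : x * x = 1 := hx
        change x⁻¹ * x⁻¹ = 1
        rw [← mul_inv_rev, hx', inv_one] }
  refine ⟨V.map φ, φ c4, ?_, ?_, ?_, ?_, ?_⟩
  · apply IsPGroup.map
    rintro ⟨x, hx⟩
    refine ⟨1, ?_⟩
    apply Subtype.ext
    have hx' : x * x = 1 := hx
    change x ^ 2 ^ 1 = 1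
    rw [pow_one, pow_two, hx']
  · intro hbot
    obtain ⟨x, hx, hx1⟩ := a4_ne
    apply hx1
    apply hφ
    rw [map_one, ← mem_bot, ← hbot]
    exact ⟨x, hx, rfl⟩
  · rw [mem_normalizer_iff]
    intro x
    constructor
    · rintro ⟨v, hv, rfl⟩
      refine ⟨c4 * v * c4⁻¹, ?_, by simp⟩
      have hv' : v * v = 1 := hv
      change c4 * v * c4⁻¹ * (c4 * v * c4⁻¹) = 1
      calc c4 * v * c4⁻¹ * (c4 * v * c4⁻¹) = c4 * (v * v) * c4⁻¹ := by group
        _ = 1 := by rw [hv', mul_one, mul_inv_cancel]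
    · rintro ⟨v, hv, hvx⟩
      refine ⟨c4⁻¹ * v * c4, ?_, ?_⟩
      · have hv' : v * v = 1 := hv
        change c4⁻¹ * v * c4 * (c4⁻¹ * v * c4) = 1
        calc c4⁻¹ * v * c4 * (c4⁻¹ * v * c4) = c4⁻¹ * (v * v) * c4 := by group
          _ = 1 := by rw [hv', mul_one, inv_mul_cancel]
      · rw [map_mul, map_mul, map_inv, hvx]
        group
  · rw [orderOf_injective φ hφ, c4_ord]
  · rw [eq_bot_iff]
    rintro x ⟨⟨v, hv, rfl⟩, hx2⟩
    have hx3 : φ v ∈ centralizer {φ c4} := hx2
    rw [mem_centralizer_singleton_iff] at hx3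
    rw [← map_mul, ← map_mul] at hx3
    rw [mem_bot, c4_fix v hv (hφ hx3), map_one]

end Cfsg.Agent.H389.RSq
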